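import Groth.Agent.EtRefine.Alg
import Groth.Agent.QFDom.Basic
import Groth.Agent.SpQS.EtSplit
import Groth.Prelude.Def_Mor2

/-! Near a point of the base, an étale morphism is dominated by Zariski opens of a finite locally free
cover; a flat finitely presented one by finite locally free covers of an étale neighbourhood. -/

set_option autoImplicit false

open AlgebraicGeometry CategoryTheory CategoryTheory.Limits

namespace Groth.Agent.EtRefine

universe u

set_option backward.isDefEq.respectTransparency false in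
/-- An étale morphism hitting `s` is dominated near `s` by Zariski opens of a finite locally free
surjection. -/
theorem exists_finLocFree_of_etale {S' S : Scheme.{u}} (e : S' ⟶ S) [Etale e] (s' : S') :
    ∃ (U : S.Opens) (W : Scheme.{u}) (π : W ⟶ U.toScheme), e s' ∈ U ∧ Mor2.IsFinLocFree π ∧
      Surjective π ∧ ∀ w : W, ∃ (W' : W.Opens) (k : W'.toScheme ⟶ S'), w ∈ W' ∧
        k ≫ e = W'.ι ≫ π ≫ U.ι := by
  obtain ⟨U₀, hU, hsU, -⟩ := exists_isAffineOpen_mem_and_subset (x := e s') (U := ⊤) trivial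
  obtain ⟨A₀, hA, hsA, hAU'⟩ := exists_isAffineOpen_mem_and_subset (x := s') (U := e ⁻¹ᵁ U₀) hsU
  have hAU : A₀ ≤ e ⁻¹ᵁ U₀ := hAU'
  let : Algebra Γ(S, U₀) Γ(S', A₀) := (e.appLE U₀ A₀ hAU).hom.toAlgebra
  haveI : Algebra.Etale Γ(S, U₀) Γ(S', A₀) := by
    have := HasRingHomProperty.appLE (P := @Etale) e inferInstance ⟨U₀, hU⟩ ⟨A₀, hA⟩ hAU
    exact this
  let Q : PrimeSpectrum Γ(S', A₀) := hA.primeIdealOf ⟨s', hsA⟩
  obtain ⟨R', _, _, hfin, hfree, hff, hcov⟩ := exists_free_cover (R := Γ(S, U₀)) Q.asIdeal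
  let π₀ : Spec (CommRingCat.of R') ⟶ Spec Γ(S, U₀) :=
    Spec.map (CommRingCat.ofHom (algebraMap Γ(S, U₀) R'))
  haveI : IsFinite π₀ := by
    rw [IsFinite.SpecMap_iff, CommRingCat.hom_ofHom, RingHom.finite_algebraMap]
    exact hfin
  haveI : LocallyOfFinitePresentation π₀ := by
    haveI := Module.finitePresentation_of_projective Γ(S, U₀) R'
    rw [HasRingHomProperty.Spec_iff (P := @LocallyOfFinitePresentation), CommRingCat.hom_ofHom,
      RingHom.finitePresentation_algebraMap]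
    infer_instance
  haveI : Flat π₀ := by
    rw [HasRingHomProperty.Spec_iff (P := @Flat), CommRingCat.hom_ofHom, RingHom.flat_algebraMap_iff]
    infer_instance
  -- the good part of the cover
  let G : Set (PrimeSpectrum R') :=
    ⋃ c ∈ {c : R' | Nonempty (Γ(S', A₀) →ₐ[Γ(S, U₀)] Localization.Away c)},
      (PrimeSpectrum.basicOpen c : Set (PrimeSpectrum R'))
  have hG : IsOpen G := isOpen_biUnion fun c _ => (PrimeSpectrum.basicOpen c).2
  let U' : (Spec Γ(S, U₀)).Opens :=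
    ⟨(π₀ '' Gᶜ)ᶜ, ((Scheme.Hom.isClosedMap π₀) _ hG.isClosed_compl).isOpen_compl⟩
  let v : Spec Γ(S, U₀) := hU.primeIdealOf ⟨e s', hsU⟩
  have hvQ : (Spec.map (e.appLE U₀ A₀ hAU)) Q = v := by
    apply (Scheme.Hom.isOpenEmbedding hU.fromSpec).injective
    rw [hU.fromSpec_primeIdealOf, ← Scheme.Hom.comp_apply,
      IsAffineOpen.SpecMap_appLE_fromSpec e hU hA hAU, Scheme.Hom.comp_apply, hA.fromSpec_primeIdealOf]
  have hv : v ∈ U' := by
    rintro ⟨q, hq, hqv⟩
    obtain ⟨c, hc, hψ⟩ := hcov q (congrArg PrimeSpectrum.asIdeal (hqv.trans hvQ.symm))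
    exact hq (Set.mem_biUnion hψ hc)
  refine ⟨hU.fromSpec ''ᵁ U', ((π₀ ⁻¹ᵁ U' : (Spec (CommRingCat.of R')).Opens) : Scheme.{u}),
    (π₀ ∣_ U') ≫ (hU.fromSpec.isoImage U').hom, ?_, ⟨?_, ?_, ?_⟩, ?_, fun w => ?_⟩
  · exact ⟨v, hv, hU.fromSpec_primeIdealOf ⟨e s', hsU⟩⟩
  · haveI : IsFinite (π₀ ∣_ U') :=
      MorphismProperty.of_isPullback (isPullback_morphismRestrict π₀ U').flip ‹IsFinite π₀›
    infer_instance
  · haveI : Flat (π₀ ∣_ U') :=
      MorphismProperty.of_isPullback (isPullback_morphismRestrict π₀ U').flip ‹Flat π₀›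
    infer_instance
  · haveI : LocallyOfFinitePresentation (π₀ ∣_ U') :=
      MorphismProperty.of_isPullback (isPullback_morphismRestrict π₀ U').flip
        ‹LocallyOfFinitePresentation π₀›
    infer_instance
  · haveI : Surjective π₀ := ⟨fun x => PrimeSpectrum.comap_surjective_of_faithfullyFlat x⟩
    haveI : Surjective (π₀ ∣_ U') :=
      MorphismProperty.of_isPullback (isPullback_morphismRestrict π₀ U').flip ‹Surjective π₀›
    infer_instance
  · have hw : ((π₀ ⁻¹ᵁ U').ι w : PrimeSpectrum R') ∈ G := by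
      by_contra h
      exact w.2 ⟨_, h, rfl⟩
    obtain ⟨c, ⟨ψ⟩, hwc⟩ := Set.mem_iUnion₂.mp hw
    let W' : ((π₀ ⁻¹ᵁ U' : (Spec (CommRingCat.of R')).Opens) : Scheme.{u}).Opens :=
      (π₀ ⁻¹ᵁ U').ι ⁻¹ᵁ (PrimeSpectrum.basicOpen c : (Spec (CommRingCat.of R')).Opens)
    let j : Spec (CommRingCat.of (Localization.Away c)) ⟶ Spec (CommRingCat.of R') :=
      Spec.map (CommRingCat.ofHom (algebraMap R' (Localization.Away c)))
    have hrange : Set.range (W'.ι ≫ (π₀ ⁻¹ᵁ U').ι) ⊆ Set.range j := by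
      rintro _ ⟨x, rfl⟩
      have hj : Set.range j = (PrimeSpectrum.basicOpen c : Set (PrimeSpectrum R')) :=
        PrimeSpectrum.localization_away_comap_range (Localization.Away c) c
      rw [hj]
      exact x.2
    refine ⟨W', IsOpenImmersion.lift j (W'.ι ≫ (π₀ ⁻¹ᵁ U').ι) hrange ≫
      Spec.map (CommRingCat.ofHom ψ.toRingHom) ≫ hA.fromSpec, hwc, ?_⟩
    have h1 : Spec.map (CommRingCat.ofHom ψ.toRingHom) ≫ Spec.map (e.appLE U₀ A₀ hAU) = j ≫ π₀ := by
      rw [← Spec.map_comp, ← Spec.map_comp]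
      congr 1
      ext r
      exact ψ.commutes r
    simp only [Category.assoc, Scheme.Hom.isoImage_hom_ι]
    rw [← IsAffineOpen.SpecMap_appLE_fromSpec e hU hA hAU, reassoc_of% h1,
      IsOpenImmersion.lift_fac_assoc, Category.assoc, morphismRestrict_ι_assoc]

set_option backward.isDefEq.respectTransparency false in
/-- A flat morphism of finite presentation hitting `s` has, on an étale neighbourhood of `s`, a section
after a surjective finite locally free base change. -/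
theorem exists_finLocFree_section {X S : Scheme.{u}} (g : X ⟶ S) [Flat g]
    [LocallyOfFinitePresentation g] (x : X) :
    ∃ (S' V : Scheme.{u}) (e : S' ⟶ S) (π : V ⟶ S') (r : V ⟶ X), Etale e ∧ g x ∈ Set.range e ∧
      Surjective π ∧ Mor2.IsFinLocFree π ∧ r ≫ g = π ≫ e := by
  obtain ⟨U, hU, hsU, -⟩ := exists_isAffineOpen_mem_and_subset (x := g x) (U := ⊤) trivial
  obtain ⟨W, hW, hxW, hWU'⟩ := exists_isAffineOpen_mem_and_subset (x := x) (U := g ⁻¹ᵁ U) hsU
  have hWU : W ≤ g ⁻¹ᵁ U := hWU'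
  let : Algebra Γ(S, U) Γ(X, W) := (g.appLE U W hWU).hom.toAlgebra
  haveI : Module.Flat Γ(S, U) Γ(X, W) := g.flat_appLE hU hW hWU
  haveI : Algebra.FinitePresentation Γ(S, U) Γ(X, W) := g.finitePresentation_appLE hU hW hWU
  let P : PrimeSpectrum Γ(X, W) := hW.primeIdealOf ⟨x, hxW⟩
  obtain ⟨T, _, _, hqf, hfl, hfp, ⟨χ⟩, Q, hQ, hQP⟩ :=
    Groth.Agent.QFDom.exists_dominating_at Γ(S, U) Γ(X, W) P.asIdeal
  let m : Spec (CommRingCat.of T) ⟶ Spec Γ(S, U) :=
    Spec.map (CommRingCat.ofHom (algebraMap Γ(S, U) T))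
  haveI : LocallyQuasiFinite m := by
    rw [HasRingHomProperty.Spec_iff (P := @LocallyQuasiFinite), CommRingCat.hom_ofHom,
      RingHom.quasiFinite_algebraMap]
    exact hqf
  haveI : LocallyOfFinitePresentation m := by
    rw [HasRingHomProperty.Spec_iff (P := @LocallyOfFinitePresentation), CommRingCat.hom_ofHom,
      RingHom.finitePresentation_algebraMap]
    exact hfp
  haveI : Flat m := by
    rw [HasRingHomProperty.Spec_iff (P := @Flat), CommRingCat.hom_ofHom, RingHom.flat_algebraMap_iff]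
    exact hfl
  let v : Spec Γ(S, U) := hU.primeIdealOf ⟨g x, hsU⟩
  have hm : Spec.map (CommRingCat.ofHom χ.toRingHom) ≫ hW.fromSpec ≫ g = m ≫ hU.fromSpec := by
    rw [← IsAffineOpen.SpecMap_appLE_fromSpec g hU hW hWU, ← Spec.map_comp_assoc]
    congr 2
    ext c
    exact χ.commutes c
  have hQv : m ⟨Q, hQ⟩ = v := by
    apply (Scheme.Hom.isOpenEmbedding hU.fromSpec).injective
    rw [hU.fromSpec_primeIdealOf]
    have : m ⟨Q, hQ⟩ = (Spec.map (g.appLE U W hWU)) P := PrimeSpectrum.ext hQP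
    rw [this, ← Scheme.Hom.comp_apply, IsAffineOpen.SpecMap_appLE_fromSpec g hU hW hWU,
      Scheme.Hom.comp_apply, hW.fromSpec_primeIdealOf]
  obtain ⟨E, e, w, he, hew, V, hVfin, hVmem⟩ := Groth.Agent.SpQS.exists_etale_split m v
    (Set.finite_singleton (⟨Q, hQ⟩ : Spec (CommRingCat.of T))) (by rintro z rfl; exact hQv)
  haveI := he
  obtain ⟨z, hzQ, hzu⟩ := Scheme.Pullback.exists_preimage_pullback
    (f := m) (g := e) ⟨Q, hQ⟩ w (hQv.trans hew.symm)
  let π₀ : (V : Scheme.{u}) ⟶ E := V.ι ≫ pullback.snd m e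
  haveI : IsFinite π₀ := hVfin
  haveI : Flat π₀ := inferInstanceAs (Flat (_ ≫ _))
  haveI : LocallyOfFinitePresentation π₀ := inferInstanceAs (LocallyOfFinitePresentation (_ ≫ _))
  let S' : E.Opens := ⟨Set.range π₀, π₀.isOpenMap.isOpen_range⟩
  have hwS : w ∈ S' := ⟨⟨z, (hVmem z hzu).mpr hzQ⟩, hzu⟩
  refine ⟨S', (π₀ ⁻¹ᵁ S' : V.toScheme.Opens), S'.ι ≫ e ≫ hU.fromSpec, π₀ ∣_ S',
    (π₀ ⁻¹ᵁ S').ι ≫ V.ι ≫ pullback.fst m e ≫ Spec.map (CommRingCat.ofHom χ.toRingHom) ≫ hW.fromSpec,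
    inferInstance, ⟨⟨w, hwS⟩, ?_⟩, ⟨fun y => ?_⟩,
    ⟨MorphismProperty.of_isPullback (isPullback_morphismRestrict π₀ S').flip hVfin,
    MorphismProperty.of_isPullback (isPullback_morphismRestrict π₀ S').flip ‹Flat π₀›,
    MorphismProperty.of_isPullback (isPullback_morphismRestrict π₀ S').flip
      ‹LocallyOfFinitePresentation π₀›⟩, ?_⟩
  · change hU.fromSpec (e w) = g x
    rw [hew, hU.fromSpec_primeIdealOf]
  · obtain ⟨y', hy'⟩ := y.2
    refine ⟨⟨y', show π₀ y' ∈ S' from hy' ▸ y.2⟩, Subtype.ext ?_⟩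
    rw [morphismRestrict_base]
    exact hy'
  · simp only [Category.assoc, hm, morphismRestrict_ι_assoc, π₀]
    rw [pullback.condition_assoc]

end Groth.Agent.EtRefine
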