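import Mathlib.RingTheory.Etale.StandardEtale
import Mathlib.RingTheory.Unramified.LocalStructure
import Mathlib.RingTheory.AdjoinRoot
import Mathlib.RingTheory.LocalRing.ResidueField.Ideal
import Mathlib.RingTheory.TensorProduct.Finite
import Mathlib.RingTheory.Flat.Basic
import Mathlib.RingTheory.Flat.FaithfullyFlat.Algebra

/-! An étale algebra is dominated, near a point of the base, by Zariski opens of a finite free one. -/

set_option autoImplicit false

namespace Groth.Agent.EtRefine

open TensorProduct Polynomial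

universe u

/-- Two field extensions of the residue field at `p` embed into a common field. -/
theorem exists_common_field {k K₁ K₂ : Type u} [Field k] [Field K₁] [Field K₂] (j₁ : k →+* K₁)
    (j₂ : k →+* K₂) :
    ∃ (L : Type u) (_ : Field L) (i₁ : K₁ →+* L) (i₂ : K₂ →+* L), i₁.comp j₁ = i₂.comp j₂ := by
  letI := j₁.toAlgebra
  letI := j₂.toAlgebra
  haveI : Nontrivial (K₁ ⊗[k] K₂) :=
    Algebra.TensorProduct.nontrivial_of_algebraMap_injective_of_flat_left k K₁ K₂
      (algebraMap k K₂).injective
  obtain ⟨m, hm⟩ := Ideal.exists_maximal (K₁ ⊗[k] K₂)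
  letI := Ideal.Quotient.field m
  refine ⟨(K₁ ⊗[k] K₂) ⧸ m, inferInstance,
    (Ideal.Quotient.mk m).comp (Algebra.TensorProduct.includeLeftRingHom),
    (Ideal.Quotient.mk m).comp
      (Algebra.TensorProduct.includeRight : K₂ →ₐ[k] K₁ ⊗[k] K₂).toRingHom, ?_⟩
  change ((Ideal.Quotient.mk m).comp Algebra.TensorProduct.includeLeftRingHom).comp (algebraMap k K₁) =
    ((Ideal.Quotient.mk m).comp (Algebra.TensorProduct.includeRight : K₂ →ₐ[k] K₁ ⊗[k] K₂).toRingHom).comp
      (algebraMap k K₂)
  rw [RingHom.comp_assoc, RingHom.comp_assoc, Algebra.TensorProduct.includeLeftRingHom_comp_algebraMap]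

theorem exists_free_cover {R A : Type u} [CommRing R] [CommRing A] [Algebra R A] [Algebra.Etale R A]
    (Q : Ideal A) [Q.IsPrime] :
    ∃ (R' : Type u) (_ : CommRing R') (_ : Algebra R R'), Module.Finite R R' ∧
      Module.Free R R' ∧ Module.FaithfullyFlat R R' ∧
      ∀ q : PrimeSpectrum R', q.asIdeal.comap (algebraMap R R') = Q.comap (algebraMap R A) →
        ∃ c, c ∉ q.asIdeal ∧ Nonempty (A →ₐ[R] Localization.Away c) := by
  obtain ⟨h, hh, hstd⟩ := Algebra.IsEtaleAt.exists_isStandardEtale (R := R) Q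
  obtain ⟨pres⟩ := hstd.nonempty_standardEtalePresentation
  let p : Ideal R := Q.comap (algebraMap R A)
  haveI : Nontrivial R :=
    ⟨⟨0, 1, fun h => (Ideal.IsPrime.ne_top (I := p) inferInstance) ((Ideal.eq_top_iff_one _).mpr (h ▸ p.zero_mem))⟩⟩
  obtain ⟨R', _, _, hfin, hfree, _, hsplit⟩ := pres.monic_f.exists_splits_map
  refine ⟨R', inferInstance, inferInstance, hfin, hfree, inferInstance, fun q hq => ?_⟩
  obtain ⟨m, hm⟩ := splits_iff_exists_multiset'.mp hsplit
  rw [(pres.monic_f.map _).leadingCoeff, C_1, one_mul] at hm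
  -- a common field over the base prime
  obtain ⟨L, _, i₁, i₂, hi⟩ := exists_common_field
    (Ideal.ResidueField.map p q.asIdeal (algebraMap R R') hq.symm)
    (Ideal.ResidueField.map p Q (algebraMap R A) rfl)
  let ψ₁ : R' →+* L := i₁.comp (algebraMap R' _)
  let ψA : A →+* L := i₂.comp (algebraMap A _)
  have hψ : ψ₁.comp (algebraMap R R') = ψA.comp (algebraMap R A) := by
    ext r
    have := RingHom.congr_fun hi (algebraMap R p.ResidueField r)
    rw [RingHom.comp_apply, RingHom.comp_apply, Ideal.ResidueField.map_algebraMap,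
      Ideal.ResidueField.map_algebraMap] at this
    exact this
  letI : Algebra R L := (ψA.comp (algebraMap R A)).toAlgebra
  let ψ₂ : A →ₐ[R] L := ⟨ψA, fun r => rfl⟩
  let ψ' : R' →ₐ[R] L := ⟨ψ₁, fun r => RingHom.congr_fun hψ r⟩
  have hu : IsUnit (ψ₂ h) := by
    refine IsUnit.map i₂ (Ne.isUnit ?_)
    rw [Ne, Ideal.algebraMap_residueField_eq_zero]
    exact hh
  let ψh : Localization.Away h →ₐ[R] L :=
    IsLocalization.liftAlgHom (M := Submonoid.powers h) (f := ψ₂) (by
      rintro ⟨_, n, rfl⟩; simpa using hu.pow n)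
  let β : L := ψh (pres.x)
  have hβf : aeval β pres.f = 0 := by
    rw [show β = ψh pres.x from rfl, aeval_algHom_apply, pres.hasMap.1, map_zero]
  have hβg : IsUnit (aeval β pres.g) := by
    rw [show β = ψh pres.x from rfl, aeval_algHom_apply]
    exact pres.hasMap.2.map ψh
  have hβ' : (pres.f.map (algebraMap R R')).eval₂ ψ₁ β = 0 := by
    rw [eval₂_map, show ψ₁.comp (algebraMap R R') = algebraMap R L from hψ]
    exact hβf
  rw [hm, ← coe_eval₂RingHom, map_multiset_prod, Multiset.prod_eq_zero_iff,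
    Multiset.map_map] at hβ'
  obtain ⟨a, ha, ha0⟩ := Multiset.mem_map.mp hβ'
  have hα : β = ψ' (-a) := by
    rw [map_neg]
    simp only [Function.comp_apply, coe_eval₂RingHom, eval₂_add, eval₂_X, eval₂_C] at ha0
    exact eq_neg_of_add_eq_zero_left ha0
  refine ⟨aeval (-a) pres.g, ?_, ⟨?_⟩⟩
  · intro hc
    apply hβg.ne_zero
    rw [hα, aeval_algHom_apply]
    change i₁ (algebraMap R' _ (aeval (-a) pres.g)) = 0
    rw [Ideal.algebraMap_residueField_eq_zero.mpr hc, map_zero]
  · let c := aeval (-a) pres.g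
    let z : Localization.Away c := algebraMap R' _ (-a)
    have hz : pres.HasMap z := by
      refine ⟨?_, ?_⟩
      · rw [aeval_algebraMap_apply]
        have : aeval (-a) pres.f = 0 := by
          rw [aeval_def, eval₂_eq_eval_map, hm, eval_multiset_prod]
          refine Multiset.prod_eq_zero (Multiset.mem_map.mpr ⟨X + C a, ?_, by simp⟩)
          exact Multiset.mem_map.mpr ⟨a, ha, rfl⟩
        rw [this, map_zero]
      · rw [aeval_algebraMap_apply]
        exact IsLocalization.Away.algebraMap_isUnit c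
    exact ((pres.lift z hz).comp pres.equivRing.toAlgHom).comp
      (IsScalarTower.toAlgHom R A (Localization.Away h))

end Groth.Agent.EtRefine
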